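import Groth.Prelude.Def_Found
import Mathlib

set_option autoImplicit false
universe u

namespace Groth.Agent.Lib.Helper39.Nag

open Polynomial

section Sub

variable {R : Type u} [CommRing R] {K : Type u} [Field K] [Algebra R K]

/-- every subalgebra of the fraction field has the same fraction field -/
theorem isFractionRing_subalgebra [IsFractionRing R K] (A : Subalgebra R K) :
    IsFractionRing A K := by
  have : FaithfulSMul A K := (faithfulSMul_iff_algebraMap_injective A K).mpr Subtype.val_injective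
  apply IsFractionRing.of_field
  intro z
  obtain ⟨a, b, hb, rfl⟩ := IsFractionRing.div_surjective (A := R) z
  exact ⟨⟨algebraMap R K a, A.algebraMap_mem a⟩, ⟨algebraMap R K b, A.algebraMap_mem b⟩, rfl⟩

/-- the local finiteness property used in the N-1 criterion -/
def HLoc (A : Subalgebra R K) (m : Ideal A) : Prop :=
  ∃ T : Finset K, (∀ τ ∈ T, IsIntegral A τ) ∧
    ∀ y : K, IsIntegral A y → ∃ t : A, t ∉ m ∧ t • y ∈ Submodule.span A (T : Set K)

theorem isIntegral_mono {A A' : Subalgebra R K} (h : A ≤ A') {y : K} (hy : IsIntegral A y) :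
    IsIntegral A' y := by
  obtain ⟨p, hp, hpy⟩ := hy
  refine ⟨p.map (Subalgebra.inclusion h).toRingHom, hp.map _, ?_⟩
  rw [Polynomial.eval₂_map]
  exact hpy

theorem isIntegral_of_le {A A' : Subalgebra R K} (h : A ≤ A')
    (hint : ∀ b ∈ A', IsIntegral A b) {y : K} (hy : IsIntegral A' y) : IsIntegral A y := by
  let _ : Algebra A A' := (Subalgebra.inclusion h).toRingHom.toAlgebra
  have : IsScalarTower A A' K := IsScalarTower.of_algebraMap_eq (fun _ => rfl)
  have : Algebra.IsIntegral A A' := ⟨fun b => by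
    have := hint b b.2
    exact (isIntegral_algHom_iff (IsScalarTower.toAlgHom A A' K) Subtype.val_injective).mp this⟩
  exact isIntegral_trans y hy

theorem span_mono_subalgebra {A A' : Subalgebra R K} (h : A ≤ A') (T : Set K) {w : K}
    (hw : w ∈ Submodule.span A T) : w ∈ Submodule.span A' T := by
  induction hw using Submodule.span_induction with
  | mem x hx => exact Submodule.subset_span hx
  | zero => exact Submodule.zero_mem _
  | add x y _ _ hx hy => exact Submodule.add_mem _ hx hy
  | smul a x _ hx =>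
    have : a • x = (Subalgebra.inclusion h a) • x := rfl
    rw [this]
    exact Submodule.smul_mem _ _ hx

/-- `HLoc` passes to integral extensions inside `K` -/
theorem hLoc_of_integral {A A' : Subalgebra R K} (h : A ≤ A')
    (hint : ∀ b ∈ A', IsIntegral A b) (m' : Ideal A')
    (H : HLoc A (m'.comap (Subalgebra.inclusion h).toRingHom)) : HLoc A' m' := by
  obtain ⟨T, hT, H⟩ := H
  refine ⟨T, fun τ hτ => isIntegral_mono h (hT τ hτ), fun y hy => ?_⟩
  obtain ⟨t, ht, hty⟩ := H y (isIntegral_of_le h hint hy)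
  refine ⟨Subalgebra.inclusion h t, ht, ?_⟩
  exact span_mono_subalgebra h _ hty

/-- `HLoc` for a subalgebra which is integrally closed in `K` -/
theorem hLoc_of_closed {A : Subalgebra R K} (hcl : ∀ y : K, IsIntegral A y → y ∈ A)
    (m : Ideal A) (hm : m ≠ ⊤) : HLoc A m := by
  classical
  refine ⟨{1}, fun τ hτ => ?_, fun y hy => ?_⟩
  · rw [Finset.mem_singleton] at hτ
    rw [hτ]
    exact isIntegral_one
  · refine ⟨1, fun h => hm ((Ideal.eq_top_iff_one m).mpr h), ?_⟩
    rw [one_smul, Finset.coe_singleton]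
    have : y = (⟨y, hcl y hy⟩ : A) • (1 : K) := by
      rw [Algebra.smul_def, mul_one]; rfl
    rw [this]
    exact Submodule.smul_mem _ _ (Submodule.subset_span rfl)

/-- scaling lemma: if `c^N b ∈ A'` for all `b ∈ A`, then multiples of integral elements over `A`
are integral over `A'` -/
theorem exists_pow_mul_isIntegral {A A' : Subalgebra R K} (h : A' ≤ A) {c : K} (hc : c ∈ A')
    (hscale : ∀ b ∈ A, ∃ N : ℕ, c ^ N * b ∈ A') {y : K} (hy : IsIntegral A y) :
    ∃ N : ℕ, IsIntegral A' (c ^ N * y) := by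
  classical
  obtain ⟨p, hp, hpy⟩ := hy
  -- a uniform exponent for the coefficients
  have hN : ∃ N : ℕ, ∀ i : ℕ, c ^ N * (p.coeff i : K) ∈ A' := by
    choose! Nf hNf using hscale
    refine ⟨(p.support).sup (fun i => Nf (p.coeff i : K)), fun i => ?_⟩
    by_cases hi : i ∈ p.support
    · have hle : Nf (p.coeff i : K) ≤ (p.support).sup (fun i => Nf (p.coeff i : K)) :=
        Finset.le_sup (f := fun i => Nf (p.coeff i : K)) hi
      obtain ⟨k, hk⟩ := Nat.exists_eq_add_of_le hle
      rw [hk, pow_add, mul_comm (c ^ _) (c ^ k), mul_assoc]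
      exact A'.mul_mem (A'.pow_mem hc k) (hNf _ (p.coeff i).2)
    · rw [Polynomial.notMem_support_iff.mp hi]
      simp
  obtain ⟨N, hN⟩ := hN
  refine ⟨N, ?_⟩
  let cA : A := ⟨c, h hc⟩
  let q : A[X] := Polynomial.scaleRoots p (cA ^ N)
  have hq : q.Monic := (Polynomial.monic_scaleRoots_iff _).mpr hp
  have hlift : q ∈ Polynomial.lifts (Subalgebra.inclusion h).toRingHom := by
    rw [Polynomial.lifts_iff_coeff_lifts]
    intro i
    rw [Polynomial.coeff_scaleRoots]
    rcases lt_trichotomy i p.natDegree with hi | hi | hi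
    · obtain ⟨k, hk⟩ := Nat.exists_eq_add_of_lt hi
      have hk' : p.natDegree - i = k + 1 := by omega
      refine ⟨⟨c ^ N * (p.coeff i : K) * (c ^ N) ^ k, A'.mul_mem (hN i) (A'.pow_mem (A'.pow_mem hc N) k)⟩, ?_⟩
      apply Subtype.ext
      change c ^ N * (p.coeff i : K) * (c ^ N) ^ k = ((p.coeff i * (cA ^ N) ^ (p.natDegree - i) : A) : K)
      rw [hk']
      push_cast
      ring
    · refine ⟨1, ?_⟩
      rw [hi, Nat.sub_self, pow_zero, mul_one, Polynomial.Monic.coeff_natDegree hp]
      exact map_one _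
    · refine ⟨0, ?_⟩
      rw [Polynomial.coeff_eq_zero_of_natDegree_lt hi, zero_mul]
      exact map_zero _
  obtain ⟨q', hq', -, hq'm⟩ := Polynomial.lifts_and_degree_eq_and_monic hlift hq
  refine ⟨q', hq'm, ?_⟩
  have h1 : Polynomial.eval₂ (algebraMap A' K) (c ^ N * y) q' =
      Polynomial.eval₂ (algebraMap A K) (c ^ N * y) q := by
    rw [← hq', Polynomial.eval₂_map]
    rfl
  rw [h1]
  have h2 : c ^ N * y = algebraMap A K (cA ^ N) * y := by
    rw [map_pow]; rfl
  rw [h2, Polynomial.scaleRoots_eval₂_mul, hpy, mul_zero]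

/-- `HLoc` passes up along a "scaling" extension -/
theorem hLoc_of_scale {A A' : Subalgebra R K} (h : A' ≤ A) {c : K} (hc : c ∈ A')
    (hscale : ∀ b ∈ A, ∃ N : ℕ, c ^ N * b ∈ A') (m : Ideal A) [hm : m.IsPrime]
    (hcm : (⟨c, h hc⟩ : A) ∉ m)
    (H : HLoc A' (m.comap (Subalgebra.inclusion h).toRingHom)) : HLoc A m := by
  obtain ⟨T, hT, H⟩ := H
  refine ⟨T, fun τ hτ => isIntegral_mono h (hT τ hτ), fun y hy => ?_⟩
  obtain ⟨N, hN⟩ := exists_pow_mul_isIntegral h hc hscale hy
  obtain ⟨t, ht, hty⟩ := H _ hN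
  refine ⟨Subalgebra.inclusion h t * (⟨c, h hc⟩ : A) ^ N, ?_, ?_⟩
  · intro hmem
    rcases hm.mem_or_mem hmem with h1 | h1
    · exact ht h1
    · exact hcm (hm.mem_of_pow_mem _ h1)
  · have h3 := span_mono_subalgebra h _ hty
    have h4 : (Subalgebra.inclusion h t * (⟨c, h hc⟩ : A) ^ N) • y = t • (c ^ N * y) := by
      rw [Algebra.smul_def, Algebra.smul_def, map_mul, map_pow, mul_assoc]
      rfl
    rw [h4]
    exact h3

end Sub

end Groth.Agent.Lib.Helper39.Nag
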