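import Groth.Prelude.Def_Found
import Groth.Agent.Lib.Helper39.Nag.Sub
import Mathlib

set_option autoImplicit false
universe u

namespace Groth.Agent.Lib.Helper39.Nag

open Polynomial

section Adjoin

variable {R : Type u} [CommRing R] {K : Type u} [Field K] [Algebra R K]

/-- II.3: clearing the denominators of `R[x]` into `R[cx]` -/
theorem exists_pow_mul_mem_adjoin (c : R) (x : K) {b : K} (hb : b ∈ Algebra.adjoin R {x}) :
    ∃ N : ℕ, (algebraMap R K c) ^ N * b ∈ Algebra.adjoin R {algebraMap R K c * x} := by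
  set B' := Algebra.adjoin R {algebraMap R K c * x} with hB'
  have hcB' : algebraMap R K c ∈ B' := B'.algebraMap_mem c
  induction hb using Algebra.adjoin_induction with
  | mem y hy =>
    rw [Set.mem_singleton_iff] at hy
    refine ⟨1, ?_⟩
    rw [hy, pow_one]
    exact Algebra.self_mem_adjoin_singleton R _
  | algebraMap r =>
    exact ⟨0, by rw [pow_zero, one_mul]; exact B'.algebraMap_mem r⟩
  | add b₁ b₂ _ _ h₁ h₂ =>
    obtain ⟨N₁, h₁⟩ := h₁
    obtain ⟨N₂, h₂⟩ := h₂
    refine ⟨N₁ + N₂, ?_⟩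
    have : algebraMap R K c ^ (N₁ + N₂) * (b₁ + b₂) =
        algebraMap R K c ^ N₂ * (algebraMap R K c ^ N₁ * b₁) +
        algebraMap R K c ^ N₁ * (algebraMap R K c ^ N₂ * b₂) := by ring
    rw [this]
    exact B'.add_mem (B'.mul_mem (B'.pow_mem hcB' _) h₁) (B'.mul_mem (B'.pow_mem hcB' _) h₂)
  | mul b₁ b₂ _ _ h₁ h₂ =>
    obtain ⟨N₁, h₁⟩ := h₁
    obtain ⟨N₂, h₂⟩ := h₂
    refine ⟨N₁ + N₂, ?_⟩
    have : algebraMap R K c ^ (N₁ + N₂) * (b₁ * b₂) =
        (algebraMap R K c ^ N₁ * b₁) * (algebraMap R K c ^ N₂ * b₂) := by ring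
    rw [this]
    exact B'.mul_mem h₁ h₂

theorem isIntegral_of_isIntegral_bot {y : K} (hy : IsIntegral (⊥ : Subalgebra R K) y) :
    IsIntegral R y := by
  have : Algebra.IsIntegral R (⊥ : Subalgebra R K) := ⟨fun b => by
    obtain ⟨r, hr⟩ := Algebra.mem_bot.mp b.2
    have : b = algebraMap R _ r := Subtype.ext hr.symm
    rw [this]
    exact isIntegral_algebraMap⟩
  exact isIntegral_trans y hy

/-- hA: integral elements over `R[b/a]` have a power of `a` as a denominator when `R` is normal -/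
theorem exists_pow_mul_mem_range [IsDomain R] [IsFractionRing R K] [IsIntegrallyClosed R]
    (a b₀ : R) (x : K) (hx : algebraMap R K a * x = algebraMap R K b₀) {y : K}
    (hy : IsIntegral (Algebra.adjoin R {x}) y) :
    ∃ (N : ℕ) (r : R), algebraMap R K r = (algebraMap R K a) ^ N * y := by
  have hscale : ∀ b ∈ Algebra.adjoin R {x}, ∃ N : ℕ,
      (algebraMap R K a) ^ N * b ∈ (⊥ : Subalgebra R K) := by
    intro b hb
    obtain ⟨N, hN⟩ := exists_pow_mul_mem_adjoin a x hb
    refine ⟨N, ?_⟩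
    rw [hx] at hN
    have hle : Algebra.adjoin R {algebraMap R K b₀} ≤ (⊥ : Subalgebra R K) :=
      Algebra.adjoin_le (by
        intro w hw
        rw [Set.mem_singleton_iff] at hw
        rw [hw]
        exact Subalgebra.algebraMap_mem _ _)
    exact hle hN
  obtain ⟨N, hN⟩ := exists_pow_mul_isIntegral (A := Algebra.adjoin R {x}) (A' := ⊥) bot_le
    (Subalgebra.algebraMap_mem _ a) hscale hy
  have h1 : IsIntegral R ((algebraMap R K a) ^ N * y) := isIntegral_of_isIntegral_bot hN
  obtain ⟨r, hr⟩ := (IsIntegrallyClosed.isIntegral_iff (R := R) (K := K)).mp h1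
  exact ⟨N, r, hr⟩

/-- every element of `R[x]` is a polynomial in `x` -/
theorem exists_aeval_eq (x : K) (b : Algebra.adjoin R {x}) :
    ∃ h : R[X], Polynomial.aeval (⟨x, Algebra.self_mem_adjoin_singleton R x⟩ :
      Algebra.adjoin R {x}) h = b := by
  have hb : (b : K) ∈ (Polynomial.aeval (R := R) x).range := by
    rw [← Algebra.adjoin_singleton_eq_range_aeval]
    exact b.2
  rw [AlgHom.mem_range] at hb
  obtain ⟨h, hh⟩ := hb
  refine ⟨h, Subtype.ext ?_⟩
  rw [Polynomial.aeval_subalgebra_coe]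
  exact hh

/-- II.4: a maximal ideal of `R[x]` contains `g(x)` for some `g` with leading coefficient outside
the ideal -/
theorem exists_polynomial_of_isMaximal (x : K) (m : Ideal (Algebra.adjoin R {x}))
    [hm : m.IsMaximal] :
    ∃ g : R[X], g ≠ 0 ∧
      Polynomial.aeval (⟨x, Algebra.self_mem_adjoin_singleton R x⟩ : Algebra.adjoin R {x}) g ∈ m ∧
      algebraMap R (Algebra.adjoin R {x}) g.leadingCoeff ∉ m := by
  classical
  let xB : Algebra.adjoin R {x} := ⟨x, Algebra.self_mem_adjoin_singleton R x⟩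
  let n : Ideal R := m.comap (algebraMap R (Algebra.adjoin R {x}))
  have hF : IsField (Algebra.adjoin R {x} ⧸ m) :=
    (Ideal.Quotient.maximal_ideal_iff_isField_quotient m).mp hm
  let xbar : Algebra.adjoin R {x} ⧸ m := Ideal.Quotient.mk m xB
  have key : ∀ h : R[X], Ideal.Quotient.mk m (Polynomial.aeval xB h) =
      Polynomial.aeval xbar (h.map (algebraMap R (R ⧸ n))) := by
    intro h
    rw [Polynomial.aeval_map_algebraMap]
    exact (Polynomial.aeval_algHom_apply (Ideal.Quotient.mkₐ R m) xB h).symm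
  have halg : ∃ gbar : (R ⧸ n)[X], gbar ≠ 0 ∧ Polynomial.aeval xbar gbar = 0 := by
    by_contra hcon
    have hinj : Function.Injective (Polynomial.aeval (R := R ⧸ n) xbar) := by
      rw [injective_iff_map_eq_zero]
      intro g hg
      by_contra hg0
      exact hcon ⟨g, hg0, hg⟩
    have hsurj : Function.Surjective (Polynomial.aeval (R := R ⧸ n) xbar) := by
      intro f
      obtain ⟨b, rfl⟩ := Ideal.Quotient.mk_surjective f
      obtain ⟨h, rfl⟩ := exists_aeval_eq x b
      exact ⟨_, (key h).symm⟩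
    have e : (R ⧸ n)[X] ≃+* (Algebra.adjoin R {x} ⧸ m) :=
      RingEquiv.ofBijective (Polynomial.aeval (R := R ⧸ n) xbar).toRingHom ⟨hinj, hsurj⟩
    exact Polynomial.not_isField (R ⧸ n) (e.toMulEquiv.isField hF)
  obtain ⟨gbar, hg0, hgx⟩ := halg
  have hlift : gbar ∈ Polynomial.lifts (algebraMap R (R ⧸ n)) := by
    rw [Polynomial.lifts_iff_coeff_lifts]
    intro i
    exact Ideal.Quotient.mk_surjective _
  obtain ⟨g, hg, hdeg⟩ := Polynomial.exists_degree_eq_of_mem_lifts hlift
  have hne : g ≠ 0 := by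
    intro h0
    rw [h0, Polynomial.map_zero] at hg
    exact hg0 hg.symm
  refine ⟨g, hne, ?_, ?_⟩
  · rw [← Ideal.Quotient.eq_zero_iff_mem]
    exact (key g).trans (by rw [hg, hgx])
  · intro hmem
    have h1 : g.leadingCoeff ∈ n := hmem
    have h2 : algebraMap R (R ⧸ n) g.leadingCoeff = 0 := Ideal.Quotient.eq_zero_iff_mem.mpr h1
    have h3 : gbar.leadingCoeff = 0 := by
      rw [← hg, Polynomial.leadingCoeff, Polynomial.coeff_map,
        Polynomial.natDegree_eq_of_degree_eq (by rw [hg]; exact hdeg.symm : (g.map _).degree = g.degree)]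
      exact h2
    exact hg0 (Polynomial.leadingCoeff_eq_zero.mp h3)

end Adjoin

end Groth.Agent.Lib.Helper39.Nag
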