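import Groth.Prelude.Def_Found
import Groth.Agent.Lib.Helper39.Nag.Adjoin
import Groth.Agent.Lib.Helper88.AnUnram2
import Mathlib

set_option autoImplicit false
universe u

namespace Groth.Agent.Lib.Helper39.Nag

open Polynomial

section Adjoin2

variable {R : Type u} [CommRing R] {K : Type u} [Field K] [Algebra R K]

/-- II.5: `R[x']` is integral over `R[g'(x')]` for monic `g'` of positive degree -/
theorem isIntegral_adjoin_of_monic (x' : K) (g' : R[X]) (hg' : g'.Monic) (hdeg : 1 ≤ g'.natDegree) :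
    ∀ b ∈ Algebra.adjoin R {x'}, IsIntegral (Algebra.adjoin R {Polynomial.aeval x' g'}) b := by
  haveI : Nontrivial R := (algebraMap R K).domain_nontrivial
  let B₀ := Algebra.adjoin R {Polynomial.aeval x' g'}
  let zB : B₀ := ⟨Polynomial.aeval x' g', Algebra.self_mem_adjoin_singleton R _⟩
  have hx' : IsIntegral B₀ x' := by
    refine ⟨g'.map (algebraMap R B₀) - Polynomial.C zB, ?_, ?_⟩
    · apply (hg'.map _).sub_of_left
      refine lt_of_le_of_lt Polynomial.degree_C_le ?_
      rw [Polynomial.degree_map_eq_of_leadingCoeff_ne_zero]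
      · rw [Polynomial.degree_eq_natDegree hg'.ne_zero]
        exact_mod_cast hdeg
      · rw [hg'.leadingCoeff, map_one]
        exact one_ne_zero
    · rw [Polynomial.eval₂_sub, Polynomial.eval₂_map, Polynomial.eval₂_C,
        ← IsScalarTower.algebraMap_eq R B₀ K]
      exact sub_self _
  intro b hb
  have hle : Algebra.adjoin R {x'} ≤ (integralClosure B₀ K).restrictScalars R :=
    Algebra.adjoin_le (by
      intro w hw
      rw [Set.mem_singleton_iff] at hw
      rw [hw]
      exact hx')
  exact hle hb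

theorem adjoin_aeval_le (x' : K) (g' : R[X]) :
    Algebra.adjoin R {Polynomial.aeval x' g'} ≤ Algebra.adjoin R {x'} :=
  Algebra.adjoin_le (by
    intro w hw
    rw [Set.mem_singleton_iff] at hw
    rw [hw, Algebra.adjoin_singleton_eq_range_aeval]
    exact ⟨g', rfl⟩)

/-- CC2: `R → R[z]/z` is surjective -/
theorem exists_add_mul_of_mem_adjoin (z : K) {s : K} (hs : s ∈ Algebra.adjoin R {z}) :
    ∃ r : R, ∃ s' ∈ Algebra.adjoin R {z}, s = algebraMap R K r + z * s' := by
  induction hs using Algebra.adjoin_induction with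
  | mem y hy =>
    rw [Set.mem_singleton_iff] at hy
    exact ⟨0, 1, Subalgebra.one_mem _, by rw [hy, map_zero, zero_add, mul_one]⟩
  | algebraMap r => exact ⟨r, 0, Subalgebra.zero_mem _, by rw [mul_zero, add_zero]⟩
  | add b₁ b₂ _ _ h₁ h₂ =>
    obtain ⟨r₁, s₁, hs₁, h₁⟩ := h₁
    obtain ⟨r₂, s₂, hs₂, h₂⟩ := h₂
    exact ⟨r₁ + r₂, s₁ + s₂, Subalgebra.add_mem _ hs₁ hs₂, by rw [h₁, h₂, map_add]; ring⟩
  | mul b₁ b₂ hb₁ hb₂ h₁ h₂ =>
    obtain ⟨r₁, s₁, hs₁, h₁⟩ := h₁
    obtain ⟨r₂, s₂, hs₂, h₂⟩ := h₂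
    refine ⟨r₁ * r₂, algebraMap R K r₁ * s₂ + s₁ * b₂, ?_, ?_⟩
    · exact Subalgebra.add_mem _ (Subalgebra.mul_mem _ (Subalgebra.algebraMap_mem _ _) hs₂)
        (Subalgebra.mul_mem _ hs₁ hb₂)
    · rw [map_mul]
      calc b₁ * b₂ = (algebraMap R K r₁ + z * s₁) * b₂ := by rw [← h₁]
        _ = algebraMap R K r₁ * b₂ + z * (s₁ * b₂) := by ring
        _ = algebraMap R K r₁ * (algebraMap R K r₂ + z * s₂) + z * (s₁ * b₂) := by rw [← h₂]
        _ = _ := by ring

/-- L1: if `s ∈ R[z]` and `z s ∈ R` then `s ∈ R`, for `R` normal -/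
theorem mem_range_of_mul_mem_range [IsDomain R] [IsFractionRing R K] [IsIntegrallyClosed R]
    (z s : K) (hs : s ∈ Algebra.adjoin R {z}) (hzs : z * s ∈ (algebraMap R K).range) :
    s ∈ (algebraMap R K).range := by
  classical
  rw [Algebra.adjoin_singleton_eq_range_aeval] at hs
  obtain ⟨h, hs_def⟩ := (AlgHom.mem_range _).mp hs
  obtain ⟨r, hr⟩ := RingHom.mem_range.mp hzs
  let d := h.natDegree
  let M : Submodule R K := Submodule.span R (Set.range (fun i : Fin (d + 1) => z ^ (i : ℕ)))
  have hmemM : ∀ i : ℕ, i ≤ d → z ^ i ∈ M := fun i hi =>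
    Submodule.subset_span ⟨⟨i, Nat.lt_succ_of_le hi⟩, rfl⟩
  have hM : M ≠ ⊥ := by
    intro hM
    have : (1 : K) ∈ M := by
      have := hmemM 0 (Nat.zero_le _)
      rwa [pow_zero] at this
    rw [hM, Submodule.mem_bot] at this
    exact one_ne_zero this
  have hFG : M.FG := Submodule.fg_span (Set.finite_range _)
  have hsM : ∀ n ∈ M, s • n ∈ M := by
    intro n hn
    induction hn using Submodule.span_induction with
    | mem w hw =>
      obtain ⟨i, rfl⟩ := hw
      change s • z ^ (i : ℕ) ∈ M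
      rcases Nat.eq_zero_or_pos (i : ℕ) with hi | hi
      · rw [hi, pow_zero, smul_eq_mul, mul_one, ← hs_def, Polynomial.aeval_eq_sum_range]
        apply Submodule.sum_mem
        intro j hj
        exact Submodule.smul_mem _ _ (hmemM j (Nat.lt_succ_iff.mp (Finset.mem_range.mp hj)))
      · obtain ⟨k, hk⟩ := Nat.exists_eq_succ_of_ne_zero hi.ne'
        have : s • z ^ (i : ℕ) = r • z ^ k := by
          rw [hk, pow_succ, smul_eq_mul, Algebra.smul_def, hr]
          ring
        rw [this]
        apply Submodule.smul_mem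
        apply hmemM
        have := i.2
        omega
    | zero => rw [smul_zero]; exact Submodule.zero_mem _
    | add a b _ _ ha hb => rw [smul_add]; exact Submodule.add_mem _ ha hb
    | smul c a _ ha => rw [smul_comm]; exact Submodule.smul_mem _ _ ha
  have hint : IsIntegral R s := isIntegral_of_smul_mem_submodule M hM hFG s hsM
  exact (IsIntegrallyClosed.isIntegral_iff (R := R) (K := K)).mp hint

theorem isNoetherianRing_adjoin_singleton [IsNoetherianRing R] (z : K) :
    IsNoetherianRing (Algebra.adjoin R {z}) := by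
  haveI : Algebra.FiniteType R (Algebra.adjoin R {z}) :=
    (Subalgebra.fg_iff_finiteType _).mp ⟨{z}, by rw [Finset.coe_singleton]⟩
  exact Algebra.FiniteType.isNoetherianRing R _

/-- CC3: the associated primes of `z` in `R[z]` are locally principal, `R` normal Noetherian -/
theorem exists_uniformizer_adjoin [IsDomain R] [IsNoetherianRing R] [IsFractionRing R K]
    [IsIntegrallyClosed R] (z : K) (hz : z ≠ 0) {q : Ideal (Algebra.adjoin R {z})}
    (hq : q ∈ associatedPrimes (Algebra.adjoin R {z}) (Algebra.adjoin R {z} ⧸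
      Ideal.span {(⟨z, Algebra.self_mem_adjoin_singleton R z⟩ : Algebra.adjoin R {z})})) :
    (⟨z, Algebra.self_mem_adjoin_singleton R z⟩ : Algebra.adjoin R {z}) ∈ q ∧
      ∃ π ∈ q, ∃ v : Algebra.adjoin R {z}, v ∉ q ∧ ∀ g ∈ q, ∃ c : Algebra.adjoin R {z},
        v * g = π * c := by
  classical
  haveI := isNoetherianRing_adjoin_singleton (R := R) z
  let zB : Algebra.adjoin R {z} := ⟨z, Algebra.self_mem_adjoin_singleton R z⟩
  obtain ⟨hprime, ybar, hy⟩ := (isAssociatedPrime_iff).mp hq
  obtain ⟨s, rfl⟩ := Ideal.Quotient.mk_surjective ybar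
  have hmem0 : ∀ g : Algebra.adjoin R {z}, g ∈ q ↔ g * s ∈ Ideal.span {zB} := by
    intro g
    rw [hy, Submodule.mem_colon_singleton, Submodule.mem_bot, ← Ideal.Quotient.eq_zero_iff_mem]
    rfl
  obtain ⟨r₀, s', hs', hss'⟩ := exists_add_mul_of_mem_adjoin z s.2
  let y : K := algebraMap R K r₀ / z
  -- membership in `q` is membership of `g y` in `R[z]`
  have hmem : ∀ g : Algebra.adjoin R {z}, g ∈ q ↔ (g : K) * y ∈ Algebra.adjoin R {z} := by
    intro g
    rw [hmem0, Ideal.mem_span_singleton']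
    constructor
    · rintro ⟨c, hc⟩
      have hcK : (c : K) * z = (g : K) * (s : K) := congrArg Subtype.val hc
      have : (g : K) * y = (c : K) - (g : K) * s' := by
        rw [hss'] at hcK
        change (g : K) * (algebraMap R K r₀ / z) = _
        field_simp
        linear_combination -hcK
      rw [this]
      exact Subalgebra.sub_mem _ c.2 (Subalgebra.mul_mem _ g.2 hs')
    · intro hgy
      refine ⟨⟨(g : K) * y + (g : K) * s', Subalgebra.add_mem _ hgy
        (Subalgebra.mul_mem _ g.2 hs')⟩, Subtype.ext ?_⟩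
      change ((g : K) * y + (g : K) * s') * z = (g : K) * (s : K)
      rw [hss']
      change ((g : K) * (algebraMap R K r₀ / z) + (g : K) * s') * z = _
      field_simp
  have hzq : zB ∈ q := by
    rw [hmem]
    change z * (algebraMap R K r₀ / z) ∈ _
    rw [mul_div_cancel₀ _ hz]
    exact Subalgebra.algebraMap_mem _ _
  refine ⟨hzq, ?_⟩
  by_cases hex : ∃ t₀ ∈ q, ∃ v : Algebra.adjoin R {z}, (v : K) = (t₀ : K) * y ∧ v ∉ q
  · obtain ⟨t₀, ht₀, v, hv, hvq⟩ := hex
    refine ⟨t₀, ht₀, v, hvq, fun g hg => ?_⟩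
    refine ⟨⟨(g : K) * y, (hmem g).mp hg⟩, Subtype.ext ?_⟩
    change (v : K) * (g : K) = (t₀ : K) * ((g : K) * y)
    rw [hv]
    ring
  · exfalso
    have hall : ∀ t ∈ q, ∀ v : Algebra.adjoin R {z}, (v : K) = (t : K) * y → v ∈ q := by
      intro t ht v hv
      by_contra hvq
      exact hex ⟨t, ht, v, hv, hvq⟩
    let qR : Ideal R := q.comap (algebraMap R (Algebra.adjoin R {z}))
    let N : Submodule R K := Submodule.map (Algebra.linearMap R K) qR
    have hN : N ≠ ⊥ := by
      obtain ⟨b, a, ha, hba⟩ := IsFractionRing.div_surjective (A := R) z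
      have haK : algebraMap R K a ≠ 0 :=
        (map_ne_zero_iff _ (IsFractionRing.injective R K)).mpr (nonZeroDivisors.ne_zero ha)
      have hbz : algebraMap R K b = algebraMap R K a * z := by
        rw [← hba, mul_div_cancel₀ _ haK]
      have hbq : b ∈ qR := by
        change algebraMap R (Algebra.adjoin R {z}) b ∈ q
        have : algebraMap R (Algebra.adjoin R {z}) b =
            algebraMap R (Algebra.adjoin R {z}) a * zB := Subtype.ext hbz
        rw [this]
        exact Ideal.mul_mem_left _ _ hzq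
      intro hN
      have : algebraMap R K b ∈ N := ⟨b, hbq, rfl⟩
      rw [hN, Submodule.mem_bot, hbz] at this
      exact (mul_ne_zero haK hz) this
    have hFG : N.FG := (IsNoetherian.noetherian qR).map _
    have hyN : ∀ n ∈ N, y • n ∈ N := by
      rintro _ ⟨t, ht, rfl⟩
      have htq : algebraMap R (Algebra.adjoin R {z}) t ∈ q := ht
      have hv := (hmem _).mp htq
      have hvq : (⟨_, hv⟩ : Algebra.adjoin R {z}) ∈ q := hall _ htq ⟨_, hv⟩ rfl
      have hzv : z * ((algebraMap R (Algebra.adjoin R {z}) t : K) * y) ∈ (algebraMap R K).range := by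
        refine ⟨t * r₀, ?_⟩
        change _ = z * (algebraMap R K t * (algebraMap R K r₀ / z))
        rw [map_mul]
        field_simp
      obtain ⟨r', hr'⟩ := mem_range_of_mul_mem_range z _ hv hzv
      refine ⟨r', ?_, ?_⟩
      · change algebraMap R (Algebra.adjoin R {z}) r' ∈ q
        have : algebraMap R (Algebra.adjoin R {z}) r' = ⟨_, hv⟩ := Subtype.ext hr'
        rw [this]
        exact hvq
      · change algebraMap R K r' = y * algebraMap R K t
        rw [hr', mul_comm]
        rfl
    have hint : IsIntegral R y := isIntegral_of_smul_mem_submodule N hN hFG y hyN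
    obtain ⟨r'', hr''⟩ := (IsIntegrallyClosed.isIntegral_iff (R := R) (K := K)).mp hint
    have h1 : (1 : Algebra.adjoin R {z}) ∈ q := by
      rw [hmem]
      change (1 : K) * y ∈ _
      rw [one_mul, ← hr'']
      exact Subalgebra.algebraMap_mem _ _
    exact hprime.ne_top ((Ideal.eq_top_iff_one q).mpr h1)

/-- CC4: `R → R[z]/q` is surjective for `z ∈ q` -/
theorem surjective_algebraMap_quotient_adjoin (z : K) (q : Ideal (Algebra.adjoin R {z}))
    (hzq : (⟨z, Algebra.self_mem_adjoin_singleton R z⟩ : Algebra.adjoin R {z}) ∈ q) :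
    Function.Surjective (algebraMap R (Algebra.adjoin R {z} ⧸ q)) := by
  intro b
  obtain ⟨s, rfl⟩ := Ideal.Quotient.mk_surjective b
  obtain ⟨r, s', hs', hss'⟩ := exists_add_mul_of_mem_adjoin z s.2
  refine ⟨r, ?_⟩
  rw [IsScalarTower.algebraMap_apply R (Algebra.adjoin R {z}) (Algebra.adjoin R {z} ⧸ q)]
  change Ideal.Quotient.mk q _ = Ideal.Quotient.mk q s
  rw [Ideal.Quotient.eq]
  have : algebraMap R (Algebra.adjoin R {z}) r - s =
      - ((⟨z, Algebra.self_mem_adjoin_singleton R z⟩ : Algebra.adjoin R {z}) * ⟨s', hs'⟩) := by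
    apply Subtype.ext
    change algebraMap R K r - (s : K) = - (z * s')
    rw [hss']
    ring
  rw [this]
  exact neg_mem (Ideal.mul_mem_right _ _ hzq)

theorem isNagata_quotient_adjoin (hR : CAlg.IsNagata R) (z : K)
    (q : Ideal (Algebra.adjoin R {z}))
    (hzq : (⟨z, Algebra.self_mem_adjoin_singleton R z⟩ : Algebra.adjoin R {z}) ∈ q) :
    CAlg.IsNagata (Algebra.adjoin R {z} ⧸ q) := by
  haveI : Module.Finite R (Algebra.adjoin R {z} ⧸ q) :=
    Module.Finite.of_surjective (Algebra.linearMap R (Algebra.adjoin R {z} ⧸ q))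
      (surjective_algebraMap_quotient_adjoin z q hzq)
  exact Groth.Agent.Lib.Helper88.AnUnram2.isNagata_of_finite R _ hR

end Adjoin2

end Groth.Agent.Lib.Helper39.Nag
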