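import Groth.Prelude.Def_Found
import Groth.Agent.Lib.Helper88.AnUnram2
import Mathlib

/-!
# Zariski's lemma without normality of the base

A variant of `Groth.Agent.Lib.Helper88.AnUnram2.isReduced_of_zariski` where the normality of the
base `S` is replaced by the hypothesis that the associated primes of `S / x S` are locally
principal.
-/

set_option autoImplicit false
universe u

namespace Groth.Agent.Lib.Helper39.Nag

open Groth.Agent.Lib.Helper88.AnUnram2

section Zariski

variable {S T : Type*} [CommRing S] [IsDomain S] [IsNoetherianRing S]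
  [CommRing T] [Algebra S T] [Module.Flat S T]

/-- nilpotents of `T` are divisible by `x` -/
theorem isNilpotent_mem_map_span' {x : S} (hx : x ≠ 0)
    (hunif : ∀ p ∈ associatedPrimes S (S ⧸ Ideal.span {x}),
      x ∈ p ∧ ∃ π ∈ p, ∃ v : S, v ∉ p ∧ ∀ g ∈ p, ∃ c : S, v * g = π * c)
    (hred : ∀ p ∈ associatedPrimes S (S ⧸ Ideal.span {x}),
      IsReduced (T ⧸ p.map (algebraMap S T)))
    {y : T} (hy : IsNilpotent y) : y ∈ (Ideal.span {x}).map (algebraMap S T) := by
  apply mem_map_of_forall_associatedPrimes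
  intro p hp
  haveI hprime : p.IsPrime := hp.isPrime
  obtain ⟨hxp, π, hπ, v, hv, hg⟩ := hunif p hp
  obtain ⟨n, w, hw, hwn⟩ := exists_pow_mem_span_of_uniformizer hx hπ hv hg
  have hπ0 : π ≠ 0 := by
    rintro rfl
    obtain ⟨c, hc⟩ := hg x hxp
    rw [zero_mul] at hc
    rcases mul_eq_zero.mp hc with h | h
    · exact hv (h ▸ p.zero_mem)
    · exact hx h
  haveI := hred p hp
  have hdiv : ∀ z ∈ p.map (algebraMap S T), ∃ v' : S, v' ∉ p ∧ ∃ z' : T,
      algebraMap S T v' * z = algebraMap S T π * z' := by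
    intro z hz
    induction hz using Submodule.span_induction with
    | mem z hz =>
      obtain ⟨g, hgp, rfl⟩ := hz
      obtain ⟨c, hc⟩ := hg g hgp
      exact ⟨v, hv, algebraMap S T c, by rw [← map_mul, ← map_mul, hc]⟩
    | zero => exact ⟨1, fun h => hprime.ne_top ((Ideal.eq_top_iff_one p).mpr h), 0, by simp⟩
    | add z₁ z₂ _ _ h₁ h₂ =>
      obtain ⟨v₁, hv₁, z₁', h₁⟩ := h₁
      obtain ⟨v₂, hv₂, z₂', h₂⟩ := h₂
      refine ⟨v₁ * v₂, fun h => (hprime.mem_or_mem h).elim hv₁ hv₂,
        algebraMap S T v₂ * z₁' + algebraMap S T v₁ * z₂', ?_⟩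
      rw [map_mul]
      calc algebraMap S T v₁ * algebraMap S T v₂ * (z₁ + z₂)
          = algebraMap S T v₂ * (algebraMap S T v₁ * z₁) +
            algebraMap S T v₁ * (algebraMap S T v₂ * z₂) := by ring
        _ = _ := by rw [h₁, h₂]; ring
    | smul t z _ h =>
      obtain ⟨v', hv', z', h⟩ := h
      refine ⟨v', hv', t * z', ?_⟩
      rw [smul_eq_mul]
      calc algebraMap S T v' * (t * z) = t * (algebraMap S T v' * z) := by ring
        _ = _ := by rw [h]; ring
  have key : ∀ k : ℕ, ∃ u : S, u ∉ p ∧ ∃ y' : T,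
      algebraMap S T u * y = algebraMap S T π ^ k * y' := by
    intro k
    induction k with
    | zero => exact ⟨1, fun h => hprime.ne_top ((Ideal.eq_top_iff_one p).mpr h), y, by simp⟩
    | succ k ih =>
      obtain ⟨u, hu, y', hy'⟩ := ih
      have hnil : IsNilpotent (algebraMap S T u * y) :=
        Commute.isNilpotent_mul_left (Commute.all _ _) hy
      have hy'nil : IsNilpotent y' := isNilpotent_of_mul_pow hπ0 hy' hnil
      have hy'p : y' ∈ p.map (algebraMap S T) := by
        rw [← Ideal.Quotient.eq_zero_iff_mem]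
        exact IsReduced.eq_zero _ (hy'nil.map (Ideal.Quotient.mk _))
      obtain ⟨v', hv', z', hz'⟩ := hdiv y' hy'p
      refine ⟨v' * u, fun h => (hprime.mem_or_mem h).elim hv' hu, z', ?_⟩
      rw [map_mul, mul_assoc, hy', pow_succ]
      calc algebraMap S T v' * (algebraMap S T π ^ k * y')
          = algebraMap S T π ^ k * (algebraMap S T v' * y') := by ring
        _ = _ := by rw [hz']; ring
  obtain ⟨u, hu, y', hy'⟩ := key n
  refine ⟨w * u, fun h => (hprime.mem_or_mem h).elim hw hu, ?_⟩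
  rw [map_mul, mul_assoc, hy', ← mul_assoc, ← map_pow, ← map_mul]
  exact Ideal.mul_mem_right _ _ (Ideal.mem_map_of_mem _ hwn)

/-- **Zariski's lemma**, with locally principal associated primes in place of normality. -/
theorem isReduced_of_zariski' {x : S} (hx : x ≠ 0)
    (hunif : ∀ p ∈ associatedPrimes S (S ⧸ Ideal.span {x}),
      x ∈ p ∧ ∃ π ∈ p, ∃ v : S, v ∉ p ∧ ∀ g ∈ p, ∃ c : S, v * g = π * c)
    (hred : ∀ p ∈ associatedPrimes S (S ⧸ Ideal.span {x}),
      IsReduced (T ⧸ p.map (algebraMap S T)))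
    (hkrull : ∀ t : T, (∀ n : ℕ, ∃ t' : T, t = algebraMap S T x ^ n * t') → t = 0) :
    IsReduced T := by
  refine ⟨fun y hy => hkrull y ?_⟩
  have key : ∀ n : ℕ, ∃ t' : T, IsNilpotent t' ∧ y = algebraMap S T x ^ n * t' := by
    intro n
    induction n with
    | zero => exact ⟨y, hy, by simp⟩
    | succ n ih =>
      obtain ⟨t', ht', hyt⟩ := ih
      have h1 := isNilpotent_mem_map_span' hx hunif hred ht'
      rw [Ideal.map_span, Set.image_singleton, Ideal.mem_span_singleton'] at h1
      obtain ⟨t'', ht''⟩ := h1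
      have h2 : t' = algebraMap S T x ^ 1 * t'' := by rw [pow_one, ← ht'', mul_comm]
      refine ⟨t'', isNilpotent_of_mul_pow hx h2 ht', ?_⟩
      rw [hyt, h2, pow_one, pow_succ, mul_assoc]
  intro n
  obtain ⟨t', -, h⟩ := key n
  exact ⟨t', h⟩

end Zariski

end Groth.Agent.Lib.Helper39.Nag
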