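import Groth.Prelude.Def_Found
import Groth.Agent.Lib.Helper39.Nag.Adjoin2
import Groth.Agent.Lib.Helper39.Nag.Zariski
import Groth.Agent.Lib.Helper88.AnUnram2
import Groth.Agent.Lib.Helper88.AnUnram
import Groth.Agent.Lib.Helper88.Japanese7
import Mathlib

set_option autoImplicit false
universe u

namespace Groth.Agent.Lib.Helper39.Nag

open Polynomial TensorProduct IsLocalRing Groth.Agent.Lib.Helper88

section Local

variable (S A₀ : Type u) [CommRing S] [IsDomain S] [IsNoetherianRing S] [CommRing A₀]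
  [Algebra S A₀] (m₀ : Ideal S) [m₀.IsPrime] [IsLocalization.AtPrime A₀ m₀] [IsLocalRing A₀]
  [IsNoetherianRing A₀]

set_option maxHeartbeats 1600000 in
/-- local form of Zariski's lemma: the localization of `S` at a prime containing `x` is
analytically unramified if the associated primes of `x` are locally principal with Nagata
quotients -/
theorem isReduced_adicCompletion_of_zariski {x : S} (hx0 : x ≠ 0) (hxm : x ∈ m₀)
    (hunif : ∀ q ∈ associatedPrimes S (S ⧸ Ideal.span {x}),
      x ∈ q ∧ ∃ π ∈ q, ∃ v : S, v ∉ q ∧ ∀ g ∈ q, ∃ c : S, v * g = π * c)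
    (hNag : ∀ q ∈ associatedPrimes S (S ⧸ Ideal.span {x}), CAlg.IsNagata (S ⧸ q)) :
    IsReduced (AdicCompletion (maximalIdeal A₀) A₀) := by
  classical
  haveI : Module.Flat S A₀ := IsLocalization.flat A₀ m₀.primeCompl
  haveI : Module.Flat A₀ (A₀ ⊗[A₀] AdicCompletion (maximalIdeal A₀) A₀) := inferInstance
  haveI : Module.Flat S (A₀ ⊗[A₀] AdicCompletion (maximalIdeal A₀) A₀) :=
    Module.Flat.trans S A₀ (A₀ ⊗[A₀] AdicCompletion (maximalIdeal A₀) A₀)
  have hx : algebraMap S A₀ x ∈ maximalIdeal A₀ :=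
    (IsLocalization.AtPrime.to_map_mem_maximal_iff A₀ m₀ x).mpr hxm
  have hredT : IsReduced (A₀ ⊗[A₀] AdicCompletion (maximalIdeal A₀) A₀) := by
    refine isReduced_of_zariski' (S := S) (T := A₀ ⊗[A₀] AdicCompletion (maximalIdeal A₀) A₀) hx0
      hunif ?_ ?_
    · intro q hq
      haveI : q.IsPrime := hq.isPrime
      let q' : Ideal A₀ := q.map (algebraMap S A₀)
      have hq'' : q.map (algebraMap S (A₀ ⊗[A₀] AdicCompletion (maximalIdeal A₀) A₀)) =
          q'.map (algebraMap A₀ (A₀ ⊗[A₀] AdicCompletion (maximalIdeal A₀) A₀)) := by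
        rw [Ideal.map_map, ← IsScalarTower.algebraMap_eq]
      rw [hq'']
      by_cases hdisj : Disjoint (m₀.primeCompl : Set S) (q : Set S)
      · haveI : q'.IsPrime := IsLocalization.isPrime_of_isPrime_disjoint m₀.primeCompl A₀ q
          inferInstance hdisj
        have hD : CAlg.IsNagata (A₀ ⧸ q') :=
          isNagata_of_isLocalization (S ⧸ q)
            (Algebra.algebraMapSubmonoid (S ⧸ q) m₀.primeCompl) (A₀ ⧸ q') (hNag q hq)
        have hred := AnUnram2.isReduced_tensor_adicCompletion A₀ (A₀ ⧸ q') hD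
        let e := Algebra.TensorProduct.quotientTensorEquiv (R := A₀) A₀
          (AdicCompletion (maximalIdeal A₀) A₀) A₀ q'
        exact isReduced_of_injective e.symm e.symm.injective
      · have htop : q' = ⊤ := by
          by_contra hne
          exact hdisj ((IsLocalization.map_algebraMap_ne_top_iff_disjoint m₀.primeCompl A₀ q).mp hne)
        rw [htop, Ideal.map_top]
        haveI : Subsingleton ((A₀ ⊗[A₀] AdicCompletion (maximalIdeal A₀) A₀) ⧸
            (⊤ : Ideal (A₀ ⊗[A₀] AdicCompletion (maximalIdeal A₀) A₀))) :=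
          Ideal.Quotient.subsingleton_iff.mpr rfl
        exact ⟨fun x _ => Subsingleton.elim x 0⟩
    · intro t ht
      refine AnUnram2.eq_zero_of_forall_pow_dvd A₀ A₀ hx t (fun n => ?_)
      obtain ⟨t', ht'⟩ := ht n
      refine ⟨t', ?_⟩
      rw [ht', IsScalarTower.algebraMap_apply S A₀
        (A₀ ⊗[A₀] AdicCompletion (maximalIdeal A₀) A₀)]
      rfl
  exact isReduced_of_injective
    (Algebra.TensorProduct.lid A₀ (AdicCompletion (maximalIdeal A₀) A₀)).symm
    (AlgEquiv.injective _)

end Local

section CC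

variable {R : Type u} [CommRing R] {K : Type u} [Field K] [Algebra R K]

/-- CC5: the local rings of `R[z]` at primes containing `z ≠ 0` are analytically unramified,
for `R` a normal Nagata domain; hence `HLoc`. -/
theorem hLoc_adjoin_of_mem [IsDomain R] [IsFractionRing R K] [IsIntegrallyClosed R]
    (hR : CAlg.IsNagata R) (z : K) (hz : z ≠ 0) (m₀ : Ideal (Algebra.adjoin R {z}))
    [hm₀ : m₀.IsPrime]
    (hzm : (⟨z, Algebra.self_mem_adjoin_singleton R z⟩ : Algebra.adjoin R {z}) ∈ m₀) :
    HLoc (Algebra.adjoin R {z}) m₀ := by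
  classical
  haveI := hR.1
  haveI := isNoetherianRing_adjoin_singleton (R := R) z
  haveI : IsFractionRing (Algebra.adjoin R {z}) K := isFractionRing_subalgebra _
  have hzB : (⟨z, Algebra.self_mem_adjoin_singleton R z⟩ : Algebra.adjoin R {z}) ≠ 0 :=
    fun h => hz (congrArg Subtype.val h)
  haveI : IsNoetherianRing (Localization.AtPrime m₀) :=
    IsLocalization.isNoetherianRing m₀.primeCompl _ inferInstance
  haveI : IsDomain (Localization.AtPrime m₀) :=
    IsLocalization.isDomain_localization m₀.primeCompl_le_nonZeroDivisors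
  haveI hredA : IsReduced (AdicCompletion (maximalIdeal (Localization.AtPrime m₀))
      (Localization.AtPrime m₀)) :=
    isReduced_adicCompletion_of_zariski (Algebra.adjoin R {z}) (Localization.AtPrime m₀) m₀
      hzB hzm (fun q hq => exists_uniformizer_adjoin z hz hq)
      (fun q hq => isNagata_quotient_adjoin hR z q (exists_uniformizer_adjoin z hz hq).1)
  have hN1 : CAlg.IsN1 (Localization.AtPrime m₀) := AnUnram.isN1_of_isReduced_completion
  have hN1' : IsN1' (Localization.AtPrime m₀) := (isN1_iff _).mp hN1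
  obtain ⟨T', hT', H⟩ := exists_finset_of_isN1'_isLocalization (Algebra.adjoin R {z}) K
    m₀.primeCompl (Localization.AtPrime m₀) hN1'
  exact ⟨T', hT', fun y hy => by
    obtain ⟨t, ht, hty⟩ := H y hy
    exact ⟨t, ht, hty⟩⟩

end CC

end Groth.Agent.Lib.Helper39.Nag
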