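import Groth.Prelude.Def_Found
import Groth.Agent.Lib.Helper39.Nag.CC
import Mathlib

set_option autoImplicit false
universe u

namespace Groth.Agent.Lib.Helper39.Nag

open Polynomial TensorProduct IsLocalRing Groth.Agent.Lib.Helper88

section Star

variable {R : Type u} [CommRing R] {K : Type u} [Field K] [Algebra R K]
  [IsDomain R] [IsFractionRing R K] [IsIntegrallyClosed R]

/-- `HLoc` at primes containing `g'(x')` with `g'` monic of positive degree -/
theorem hLoc_adjoin_of_monic (hR : CAlg.IsNagata R) (x' : K) (g' : R[X]) (hg' : g'.Monic)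
    (hdeg : 1 ≤ g'.natDegree) (m' : Ideal (Algebra.adjoin R {x'})) [hm' : m'.IsPrime]
    (hgm : Polynomial.aeval (⟨x', Algebra.self_mem_adjoin_singleton R x'⟩ :
      Algebra.adjoin R {x'}) g' ∈ m') : HLoc (Algebra.adjoin R {x'}) m' := by
  classical
  have hle : Algebra.adjoin R {Polynomial.aeval x' g'} ≤ Algebra.adjoin R {x'} :=
    adjoin_aeval_le x' g'
  refine hLoc_of_integral hle (isIntegral_adjoin_of_monic x' g' hg' hdeg) m' ?_
  haveI : (m'.comap (Subalgebra.inclusion hle).toRingHom).IsPrime := Ideal.IsPrime.comap _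
  have hzm : (⟨Polynomial.aeval x' g', Algebra.self_mem_adjoin_singleton R _⟩ :
      Algebra.adjoin R {Polynomial.aeval x' g'}) ∈ m'.comap (Subalgebra.inclusion hle).toRingHom := by
    rw [Ideal.mem_comap]
    have : (Subalgebra.inclusion hle).toRingHom
        (⟨Polynomial.aeval x' g', Algebra.self_mem_adjoin_singleton R _⟩ :
          Algebra.adjoin R {Polynomial.aeval x' g'}) =
        Polynomial.aeval (⟨x', Algebra.self_mem_adjoin_singleton R x'⟩ :
          Algebra.adjoin R {x'}) g' := by
      apply Subtype.ext
      rw [Polynomial.aeval_subalgebra_coe]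
      rfl
    rw [this]
    exact hgm
  by_cases hz : Polynomial.aeval x' g' = 0
  · -- `R[0] = R` is integrally closed
    apply hLoc_of_closed _ _ (Ideal.IsPrime.ne_top inferInstance)
    intro y hy
    have hbot : ∀ b ∈ Algebra.adjoin R {Polynomial.aeval x' g'},
        b ∈ (⊥ : Subalgebra R K) := by
      intro b hb
      have hle' : Algebra.adjoin R {Polynomial.aeval x' g'} ≤ (⊥ : Subalgebra R K) :=
        Algebra.adjoin_le (by
          intro w hw
          rw [Set.mem_singleton_iff] at hw
          rw [hw, hz]
          exact Subalgebra.zero_mem _)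
      exact hle' hb
    have h1 : IsIntegral (⊥ : Subalgebra R K) y := by
      refine isIntegral_of_le bot_le (fun b hb => ?_) hy
      have : b = algebraMap (⊥ : Subalgebra R K) K ⟨b, hbot b hb⟩ := rfl
      rw [this]
      exact isIntegral_algebraMap
    have h2 : IsIntegral R y := isIntegral_of_isIntegral_bot h1
    obtain ⟨r, hr⟩ := (IsIntegrallyClosed.isIntegral_iff (R := R) (K := K)).mp h2
    rw [← hr]
    exact Subalgebra.algebraMap_mem _ _
  · exact hLoc_adjoin_of_mem hR _ hz _ hzm

omit [IsDomain R] [IsFractionRing R K] [IsIntegrallyClosed R] in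
theorem aeval_integralNormalization (g : R[X]) (hdeg : 1 ≤ g.natDegree) (x : K) :
    Polynomial.aeval (algebraMap R K g.leadingCoeff * x) (Polynomial.integralNormalization g) =
      (algebraMap R K g.leadingCoeff) ^ (g.natDegree - 1) * Polynomial.aeval x g := by
  rw [Polynomial.aeval_def, Polynomial.aeval_def]
  exact Polynomial.integralNormalization_eval₂_leadingCoeff_mul hdeg _ _

/-- `HLoc` at the maximal ideals of `R[x]` -/
theorem hLoc_adjoin_of_isMaximal (hR : CAlg.IsNagata R) (x : K) (m : Ideal (Algebra.adjoin R {x}))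
    [hm : m.IsMaximal] : HLoc (Algebra.adjoin R {x}) m := by
  classical
  obtain ⟨g, hg0, hgm, hlc⟩ := exists_polynomial_of_isMaximal x m
  have hdeg : 1 ≤ g.natDegree := by
    by_contra hcon
    have h0 : g.natDegree = 0 := by omega
    have hC : g = Polynomial.C (g.coeff 0) := Polynomial.eq_C_of_natDegree_eq_zero h0
    have hl : g.leadingCoeff = g.coeff 0 := by rw [Polynomial.leadingCoeff, h0]
    rw [hC, Polynomial.aeval_C] at hgm
    rw [hl] at hlc
    exact hlc hgm
  set c := g.leadingCoeff with hc_def
  let x' : K := algebraMap R K c * x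
  let g' := Polynomial.integralNormalization g
  have hg' : g'.Monic := Polynomial.monic_integralNormalization hg0
  have hdeg' : 1 ≤ g'.natDegree := by
    rw [Polynomial.natDegree_integralNormalization]; exact hdeg
  have hx'mem : x' ∈ Algebra.adjoin R {x} :=
    Subalgebra.mul_mem _ (Subalgebra.algebraMap_mem _ _) (Algebra.self_mem_adjoin_singleton R x)
  have hle : Algebra.adjoin R {x'} ≤ Algebra.adjoin R {x} :=
    Algebra.adjoin_le (by
      intro w hw
      rw [Set.mem_singleton_iff] at hw
      rw [hw]
      exact hx'mem)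
  have hcmem : algebraMap R K c ∈ Algebra.adjoin R {x'} := Subalgebra.algebraMap_mem _ _
  haveI : m.IsPrime := hm.isPrime
  refine hLoc_of_scale hle hcmem (fun b hb => exists_pow_mul_mem_adjoin c x hb) m ?_ ?_
  · have : (⟨algebraMap R K c, hle hcmem⟩ : Algebra.adjoin R {x}) =
        algebraMap R (Algebra.adjoin R {x}) c := Subtype.ext rfl
    rw [this]
    exact hlc
  · haveI : (m.comap (Subalgebra.inclusion hle).toRingHom).IsPrime := Ideal.IsPrime.comap _
    refine hLoc_adjoin_of_monic hR x' g' hg' hdeg' _ ?_
    rw [Ideal.mem_comap]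
    have key : (Subalgebra.inclusion hle).toRingHom
        (Polynomial.aeval (⟨x', Algebra.self_mem_adjoin_singleton R x'⟩ :
          Algebra.adjoin R {x'}) g') =
        (algebraMap R (Algebra.adjoin R {x}) c) ^ (g.natDegree - 1) *
          Polynomial.aeval (⟨x, Algebra.self_mem_adjoin_singleton R x⟩ :
            Algebra.adjoin R {x}) g := by
      apply Subtype.ext
      have h1 : (((Subalgebra.inclusion hle).toRingHom
          (Polynomial.aeval (⟨x', Algebra.self_mem_adjoin_singleton R x'⟩ :
            Algebra.adjoin R {x'}) g') : Algebra.adjoin R {x}) : K) =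
          Polynomial.aeval x' g' := by
        rw [AlgHom.toRingHom_eq_coe, RingHom.coe_coe, Subalgebra.coe_inclusion,
          Polynomial.aeval_subalgebra_coe]
      have h2 : (((algebraMap R (Algebra.adjoin R {x}) c) ^ (g.natDegree - 1) *
          Polynomial.aeval (⟨x, Algebra.self_mem_adjoin_singleton R x⟩ :
            Algebra.adjoin R {x}) g : Algebra.adjoin R {x}) : K) =
          (algebraMap R K c) ^ (g.natDegree - 1) * Polynomial.aeval x g := by
        rw [Subalgebra.coe_mul, Subalgebra.coe_pow, Polynomial.aeval_subalgebra_coe,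
          Subalgebra.coe_algebraMap]
      rw [h1, h2]
      exact aeval_integralNormalization g hdeg x
    rw [key]
    exact Ideal.mul_mem_left _ _ hgm

/-- (***) : for a normal Nagata domain `R` and `x ∈ Frac R`, the ring `R[x]` is N-1. -/
theorem finite_integralClosure_adjoin (hR : CAlg.IsNagata R) (x : K) :
    Module.Finite (Algebra.adjoin R {x}) (integralClosure (Algebra.adjoin R {x}) K) := by
  classical
  haveI := hR.1
  haveI := isNoetherianRing_adjoin_singleton (R := R) x
  haveI : IsFractionRing (Algebra.adjoin R {x}) K := isFractionRing_subalgebra _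
  obtain ⟨b₀, a, ha, hba⟩ := IsFractionRing.div_surjective (A := R) x
  have haK : algebraMap R K a ≠ 0 :=
    (map_ne_zero_iff _ (IsFractionRing.injective R K)).mpr (nonZeroDivisors.ne_zero ha)
  have hx : algebraMap R K a * x = algebraMap R K b₀ := by
    rw [← hba, mul_div_cancel₀ _ haK]
  have hf : algebraMap R (Algebra.adjoin R {x}) a ≠ 0 := by
    intro h
    exact haK (congrArg Subtype.val h)
  refine finite_integralClosure_of_away_of_local (R := Algebra.adjoin R {x}) (K := K)
    (algebraMap R (Algebra.adjoin R {x}) a) hf ?_ ?_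
  · intro y hy
    obtain ⟨N, r, hr⟩ := exists_pow_mul_mem_range a b₀ x hx hy
    refine ⟨N, algebraMap R (Algebra.adjoin R {x}) r, ?_⟩
    rw [Algebra.smul_def, map_pow]
    exact hr
  · intro m hm
    haveI := hm
    exact hLoc_adjoin_of_isMaximal hR x m

end Star

end Groth.Agent.Lib.Helper39.Nag
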