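import Groth.Prelude.Def_Found
import Groth.Agent.Lib.Helper39.Nag.Star
import Groth.Agent.Lib.Helper88.PolyN2
import Groth.Agent.Lib.Helper88.Japanese3
import Mathlib

set_option autoImplicit false
universe u

namespace Groth.Agent.Lib.Helper39.Nag

open Polynomial TensorProduct IsLocalRing Groth.Agent.Lib.Helper88

section Gen

theorem isIntegral_of_range_le {A A' L : Type*} [CommRing A] [CommRing A'] [CommRing L]
    [Nontrivial L] [Algebra A L] [Algebra A' L]
    (h : (algebraMap A L).range ≤ (algebraMap A' L).range) {y : L} (hy : IsIntegral A y) :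
    IsIntegral A' y := by
  obtain ⟨p, hp, hpy⟩ := hy
  have hlift : p.map (algebraMap A L) ∈ Polynomial.lifts (algebraMap A' L) := by
    rw [Polynomial.lifts_iff_coeff_lifts]
    intro i
    rw [Polynomial.coeff_map]
    exact h ⟨_, rfl⟩
  obtain ⟨q, hq, -, hqm⟩ := Polynomial.lifts_and_degree_eq_and_monic hlift (hp.map _)
  refine ⟨q, hqm, ?_⟩
  rw [← Polynomial.eval_map, hq, Polynomial.eval_map]
  exact hpy

theorem exists_finite_span_of_finite_integralClosure {A L : Type*} [CommRing A] [CommRing L]
    [Algebra A L] (h : Module.Finite A (integralClosure A L)) :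
    ∃ Cs : Set L, Cs.Finite ∧ ∀ y : L, IsIntegral A y → y ∈ Submodule.span A Cs := by
  classical
  obtain ⟨C, hC⟩ := (Module.Finite.fg_top : (⊤ : Submodule A (integralClosure A L)).FG)
  refine ⟨(integralClosure A L).val.toLinearMap '' (C : Set (integralClosure A L)),
    Set.Finite.image _ C.finite_toSet, fun y hy => ?_⟩
  have hmem : (⟨y, hy⟩ : integralClosure A L) ∈ Submodule.span A (C : Set (integralClosure A L)) := by
    rw [hC]; exact Submodule.mem_top
  exact Submodule.apply_mem_span_image_of_mem_span (integralClosure A L).val.toLinearMap hmem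

end Gen

section OneGen

variable (D T : Type u) [CommRing D] [IsDomain D] [CommRing T] [IsDomain T] [Algebra D T]

/-- transcendental case -/
theorem isN2_of_adjoin_singleton_transcendental (hD : CAlg.IsNagata D) (x : T)
    (hx : Algebra.adjoin D {x} = ⊤) (htr : Transcendental D x) : CAlg.IsN2 T := by
  haveI := hD.1
  have hbij : Function.Bijective (Polynomial.aeval (R := D) x) := by
    refine ⟨transcendental_iff_injective.mp htr, ?_⟩
    intro t
    have ht : t ∈ Algebra.adjoin D {x} := by rw [hx]; exact Algebra.mem_top
    rw [Algebra.adjoin_singleton_eq_range_aeval] at ht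
    exact ht
  let e : D[X] ≃+* T := RingEquiv.ofBijective (Polynomial.aeval (R := D) x).toRingHom hbij
  have hD2 : CAlg.IsN2 D := isN2_of_ringEquiv (RingEquiv.quotientBot D) (hD.2 ⊥)
  exact isN2_of_ringEquiv e (PolyN2.isN2_polynomial D hD2)

set_option maxHeartbeats 1600000 in
/-- algebraic case -/
theorem isN2_of_adjoin_singleton_algebraic (hinj : Function.Injective (algebraMap D T))
    (hD : CAlg.IsNagata D) (x : T) (hx : Algebra.adjoin D {x} = ⊤) (halg : IsAlgebraic D x) :
    CAlg.IsN2 T := by
  classical
  haveI := hD.1
  haveI : Algebra.FiniteType D T := ⟨⟨{x}, by rw [Finset.coe_singleton]; exact hx⟩⟩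
  haveI : IsNoetherianRing T := Algebra.FiniteType.isNoetherianRing D T
  intro L _ _ _ _ hfin
  haveI := hfin
  letI : Algebra D L := ((algebraMap T L).comp (algebraMap D T)).toAlgebra
  haveI : IsScalarTower D T L := IsScalarTower.of_algebraMap_eq (fun _ => rfl)
  have hTL : Function.Injective (algebraMap T L) := by
    rw [IsScalarTower.algebraMap_eq T (FractionRing T) L]
    exact (algebraMap (FractionRing T) L).injective.comp (IsFractionRing.injective T _)
  have hDL : Function.Injective (algebraMap D L) := hTL.comp hinj
  letI : Algebra (FractionRing D) L := (IsFractionRing.lift hDL).toAlgebra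
  haveI : IsScalarTower D (FractionRing D) L := IsScalarTower.of_algebraMap_eq
    (fun d => (IsFractionRing.lift_algebraMap hDL d).symm)
  have hxL : IsIntegral (FractionRing D) (algebraMap T L x) := by
    have h1 : IsAlgebraic D (algebraMap T L x) := halg.algebraMap
    have h2 : IsAlgebraic (FractionRing D) (algebraMap T L x) :=
      h1.extendScalars (IsFractionRing.injective D (FractionRing D))
    exact h2.isIntegral
  haveI : FiniteDimensional (FractionRing D)
      (IntermediateField.adjoin (FractionRing D) {algebraMap T L x}) :=
    IntermediateField.adjoin.finiteDimensional hxL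
  have hTE : ∀ t : T, algebraMap T L t ∈
      IntermediateField.adjoin (FractionRing D) {algebraMap T L x} := by
    intro t
    have ht : t ∈ Algebra.adjoin D {x} := by rw [hx]; exact Algebra.mem_top
    induction ht using Algebra.adjoin_induction with
    | mem y hy =>
      rw [Set.mem_singleton_iff.mp hy]
      exact IntermediateField.mem_adjoin_simple_self _ _
    | algebraMap d =>
      rw [← IsScalarTower.algebraMap_apply D T L,
        IsScalarTower.algebraMap_apply D (FractionRing D) L]
      exact IntermediateField.algebraMap_mem _ _
    | add a b _ _ ha hb => rw [map_add]; exact add_mem ha hb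
    | mul a b _ _ ha hb => rw [map_mul]; exact mul_mem ha hb
  have hFE : ∀ f : FractionRing T, algebraMap (FractionRing T) L f ∈
      IntermediateField.adjoin (FractionRing D) {algebraMap T L x} := by
    intro f
    obtain ⟨a, b, hb, rfl⟩ := IsFractionRing.div_surjective (A := T) f
    rw [map_div₀, ← IsScalarTower.algebraMap_apply, ← IsScalarTower.algebraMap_apply]
    exact div_mem (hTE a) (hTE b)
  haveI : Module.Finite (IntermediateField.adjoin (FractionRing D) {algebraMap T L x}) L := by
    obtain ⟨s, hs⟩ := (Module.Finite.fg_top : (⊤ : Submodule (FractionRing T) L).FG)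
    refine ⟨⟨s, ?_⟩⟩
    rw [eq_top_iff]
    rintro l -
    have hl : l ∈ Submodule.span (FractionRing T) (s : Set L) := by rw [hs]; exact Submodule.mem_top
    induction hl using Submodule.span_induction with
    | mem w hw => exact Submodule.subset_span hw
    | zero => exact Submodule.zero_mem _
    | add a b _ _ ha hb => exact Submodule.add_mem _ ha hb
    | smul f w _ hw =>
      have : f • w = (⟨algebraMap _ L f, hFE f⟩ :
          IntermediateField.adjoin (FractionRing D) {algebraMap T L x}) • w := by
        rw [Algebra.smul_def]; rfl
      rw [this]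
      exact Submodule.smul_mem _ _ hw
  haveI : FiniteDimensional (FractionRing D) L :=
    Module.Finite.trans (IntermediateField.adjoin (FractionRing D) {algebraMap T L x}) L
  have hD2' : IsN2' D :=
    (isN2_iff D).mp (isN2_of_ringEquiv (RingEquiv.quotientBot D) (hD.2 ⊥))
  haveI hfinD' : Module.Finite D (integralClosure D L) := hD2' (FractionRing D) L inferInstance
  have hND' : CAlg.IsNagata (integralClosure D L) :=
    AnUnram2.isNagata_of_finite D (integralClosure D L) hD
  haveI : IsIntegrallyClosed (integralClosure D L) :=
    integralClosure.isIntegrallyClosedOfFiniteExtension (FractionRing D)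
  haveI : IsFractionRing (integralClosure D L) L :=
    integralClosure.isFractionRing_of_finite_extension (FractionRing D) L
  haveI hstar := finite_integralClosure_adjoin (R := integralClosure D L) (K := L) hND'
    (algebraMap T L x)
  -- `T ⊆ T'`
  have hTT' : ∀ t : T, algebraMap T L t ∈
      Algebra.adjoin (integralClosure D L) {algebraMap T L x} := by
    intro t
    have ht : t ∈ Algebra.adjoin D {x} := by rw [hx]; exact Algebra.mem_top
    induction ht using Algebra.adjoin_induction with
    | mem y hy =>
      rw [Set.mem_singleton_iff.mp hy]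
      exact Algebra.self_mem_adjoin_singleton _ _
    | algebraMap d =>
      rw [← IsScalarTower.algebraMap_apply D T L,
        IsScalarTower.algebraMap_apply D (integralClosure D L) L]
      exact Subalgebra.algebraMap_mem _ _
    | add a b _ _ ha hb => rw [map_add]; exact add_mem ha hb
    | mul a b _ _ ha hb => rw [map_mul]; exact mul_mem ha hb
  -- finite generating set of `D'`
  obtain ⟨G, hG⟩ := (Module.Finite.fg_top : (⊤ : Submodule D (integralClosure D L)).FG)
  obtain ⟨Gs, hGs⟩ : ∃ Gs : Set L,
      Gs = (fun g : integralClosure D L => (g : L)) '' (G : Set (integralClosure D L)) := ⟨_, rfl⟩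
  have hT''fg : (Subalgebra.toSubmodule (Algebra.adjoin T Gs)).FG :=
    fg_adjoin_of_finite (by rw [hGs]; exact Set.Finite.image _ G.finite_toSet) (by
      intro w hw
      rw [hGs] at hw
      obtain ⟨g, _, rfl⟩ := hw
      exact (g.2 : IsIntegral D (g : L)).tower_top)
  have hD'T'' : ∀ d' : integralClosure D L, (d' : L) ∈ Algebra.adjoin T Gs := by
    intro d'
    have hd' : d' ∈ Submodule.span D (G : Set (integralClosure D L)) := by
      rw [hG]; exact Submodule.mem_top
    induction hd' using Submodule.span_induction with
    | mem w hw => exact Algebra.subset_adjoin (by rw [hGs]; exact ⟨w, hw, rfl⟩)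
    | zero => exact Subalgebra.zero_mem _
    | add a b _ _ ha hb => exact Subalgebra.add_mem _ ha hb
    | smul d w _ hw =>
      have : ((d • w : integralClosure D L) : L) = algebraMap T L (algebraMap D T d) * (w : L) := by
        rw [← IsScalarTower.algebraMap_apply D T L, ← Algebra.smul_def]
        rfl
      rw [this]
      exact Subalgebra.mul_mem _ (Subalgebra.algebraMap_mem _ _) hw
  have hT'T'' : ∀ t' ∈ Algebra.adjoin (integralClosure D L) {algebraMap T L x},
      t' ∈ Algebra.adjoin T Gs := by
    intro t' ht'
    induction ht' using Algebra.adjoin_induction with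
    | mem y hy =>
      rw [Set.mem_singleton_iff.mp hy]
      exact Subalgebra.algebraMap_mem _ x
    | algebraMap d' => exact hD'T'' d'
    | add a b _ _ ha hb => exact Subalgebra.add_mem _ ha hb
    | mul a b _ _ ha hb => exact Subalgebra.mul_mem _ ha hb
  -- generators of the integral closure
  obtain ⟨Cs, hCsfin, hCs⟩ := exists_finite_span_of_finite_integralClosure hstar
  let W : Submodule T L := Subalgebra.toSubmodule (Algebra.adjoin T Gs) * Submodule.span T Cs
  have hWfg : W.FG := hT''fg.mul (Submodule.fg_span hCsfin)
  have hmulW : ∀ t'' ∈ Algebra.adjoin T Gs, ∀ w ∈ W, t'' * w ∈ W := by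
    intro t'' ht'' w hw
    refine Submodule.mul_induction_on hw ?_ ?_
    · intro a ha b hb
      rw [← mul_assoc]
      exact Submodule.mul_mem_mul (Subalgebra.mul_mem _ ht'' ha) hb
    · intro a b ha hb
      rw [mul_add]; exact W.add_mem ha hb
  have hICW : ∀ y : L, IsIntegral T y → y ∈ W := by
    intro y hy
    have hy' : IsIntegral (Algebra.adjoin (integralClosure D L) {algebraMap T L x}) y :=
      isIntegral_of_range_le (by
        rintro _ ⟨t, rfl⟩
        exact ⟨⟨_, hTT' t⟩, rfl⟩) hy
    have hmem := hCs y hy'
    clear hy' hy
    induction hmem using Submodule.span_induction with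
    | mem w hw =>
      have : w = 1 * w := (one_mul _).symm
      rw [this]
      exact Submodule.mul_mem_mul (Subalgebra.one_mem _) (Submodule.subset_span hw)
    | zero => exact W.zero_mem
    | add a b _ _ ha hb => exact W.add_mem ha hb
    | smul t' w _ hw => exact hmulW _ (hT'T'' _ t'.2) _ hw
  haveI : IsNoetherian T W := isNoetherian_of_fg_of_noetherian W hWfg
  let f : integralClosure T L →ₗ[T] W :=
    { toFun := fun y => ⟨(y : L), hICW y y.2⟩
      map_add' := fun _ _ => rfl
      map_smul' := fun _ _ => rfl }
  exact Module.Finite.of_injective f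
    (fun a b hab => Subtype.ext (congrArg (fun w : W => (w : L)) hab))

/-- (*) : a domain generated by one element over a Nagata domain is N-2. -/
theorem isN2_of_adjoin_singleton (hinj : Function.Injective (algebraMap D T))
    (hD : CAlg.IsNagata D) (x : T) (hx : Algebra.adjoin D {x} = ⊤) : CAlg.IsN2 T := by
  by_cases htr : Transcendental D x
  · exact isN2_of_adjoin_singleton_transcendental D T hD x hx htr
  · exact isN2_of_adjoin_singleton_algebraic D T hinj hD x hx (by
      rwa [Transcendental, not_not] at htr)

end OneGen

end Groth.Agent.Lib.Helper39.Nag
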