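import Groth.Prelude.Def_Found
import Groth.Agent.Lib.Helper39.Nag.OneGen
import Mathlib

set_option autoImplicit false
universe u

namespace Groth.Agent.Lib.Helper39.Nag

open Polynomial TensorProduct IsLocalRing Groth.Agent.Lib.Helper88

section Final

theorem isNagata_of_surjective {A B : Type u} [CommRing A] [CommRing B] (f : A →+* B)
    (hf : Function.Surjective f) (hA : CAlg.IsNagata A) : CAlg.IsNagata B := by
  letI : Algebra A B := f.toAlgebra
  haveI : Module.Finite A B := Module.Finite.of_surjective (Algebra.linearMap A B) hf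
  exact AnUnram2.isNagata_of_finite A B hA

/-- `R` Nagata implies `R[X]` Nagata -/
theorem isNagata_polynomial (R : Type u) [CommRing R] (hR : CAlg.IsNagata R) :
    CAlg.IsNagata R[X] := by
  haveI := hR.1
  refine ⟨inferInstance, ?_⟩
  intro Q hQ
  let p : Ideal R := Q.comap (algebraMap R R[X])
  haveI : p.IsPrime := Ideal.IsPrime.comap _
  have hD : CAlg.IsNagata (R ⧸ p) :=
    isNagata_of_surjective (Ideal.Quotient.mk p) Ideal.Quotient.mk_surjective hR
  have hinj : Function.Injective (algebraMap (R ⧸ p) (R[X] ⧸ Q)) :=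
    Ideal.algebraMap_quotient_injective
  refine isN2_of_adjoin_singleton (R ⧸ p) (R[X] ⧸ Q) hinj hD (Ideal.Quotient.mk Q Polynomial.X) ?_
  rw [eq_top_iff]
  rintro t -
  obtain ⟨f, rfl⟩ := Ideal.Quotient.mk_surjective t
  induction f using Polynomial.induction_on' with
  | add f g hf hg => rw [map_add]; exact Subalgebra.add_mem _ hf hg
  | monomial n a =>
    have : Ideal.Quotient.mk Q (Polynomial.monomial n a) =
        algebraMap (R ⧸ p) (R[X] ⧸ Q) (Ideal.Quotient.mk p a) *
          (Ideal.Quotient.mk Q Polynomial.X) ^ n := by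
      rw [← Polynomial.C_mul_X_pow_eq_monomial, map_mul, map_pow]
      rfl
    rw [this]
    exact Subalgebra.mul_mem _ (Subalgebra.algebraMap_mem _ _)
      (Subalgebra.pow_mem _ (Algebra.self_mem_adjoin_singleton _ _) n)

theorem isNagata_mvPolynomial (R : Type u) [CommRing R] (hR : CAlg.IsNagata R) (n : ℕ) :
    CAlg.IsNagata (MvPolynomial (Fin n) R) := by
  induction n with
  | zero =>
    exact isNagata_of_surjective (MvPolynomial.isEmptyAlgEquiv R (Fin 0)).symm.toRingEquiv.toRingHom
      (MvPolynomial.isEmptyAlgEquiv R (Fin 0)).symm.surjective hR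
  | succ n ih =>
    exact isNagata_of_surjective (MvPolynomial.finSuccEquiv R n).symm.toRingEquiv.toRingHom
      (MvPolynomial.finSuccEquiv R n).symm.surjective (isNagata_polynomial _ ih)

/-- **Stacks 0334**: a finite type algebra over a Nagata ring is Nagata. -/
theorem isNagata_of_finiteType (R : Type u) [CommRing R] (hR : CAlg.IsNagata R) (S : Type u)
    [CommRing S] [Algebra R S] [Algebra.FiniteType R S] : CAlg.IsNagata S := by
  obtain ⟨n, f, hf⟩ := Algebra.FiniteType.iff_quotient_mvPolynomial''.mp
    (inferInstance : Algebra.FiniteType R S)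
  exact isNagata_of_surjective f.toRingHom hf (isNagata_mvPolynomial R hR n)

end Final

end Groth.Agent.Lib.Helper39.Nag
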